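import Cfsg.Agent.H417.JThreeDeg
import Cfsg.Agent.H489.OutSpor
import Cfsg.Agent.H954.LD.Row

/-!
# S4910, the row `J₃` : the degrees 324 and 1615 (helper360; generated certificates)
-/

set_option autoImplicit false
set_option maxRecDepth 100000

namespace Cfsg.Agent.H360.LD

open Cfsg Cfsg.Agent.H417.JThreeLP Cfsg.Agent.H954.LD Cfsg.Agent.M23Order.Base

universe u

variable {ι : Type*} [Fintype ι]

/-- 324 is a degree -/
theorem a0 {V : ι → Fin 8 → ℤ} (h : Hyp V) (h0 : num V (degIs 324) ≤ 0) : False := by
  refine leaf h vecs h.mem
    [629775, -52567994830, -263246808800, 0, -523238940400, 0, 423798635840, 0, -12795283346913, -79986946867200, -63613964256480, -136928681699760, 63836150220000, 69914449264608, 9998368358400, -79986946867200, -318069821282400, -205772988031200, 319180751100000, -35206107228000, 49991841792000, -1481239756800, -636880262443200, 740619878400, 510392953808640, 0, -79986946867200, 643545841348800, -235995146550720, 99983683584000, 740619878400, -507726722246400, 0, 266750062541568, -79986946867200, 0, -79986946867200, -3724882329600, 12500458687411200,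 1403279769600, -2981969510400]
    [((degIs 324), (2661146312256000 : ℤ), (2661146312256000 : ℤ) * 0)] ?_ (by decide +kernel) (by decide +kernel)
  intro e he
  simp only [List.mem_cons, List.not_mem_nil, or_false] at he
  rcases he with rfl
  exact le_of_le (by norm_num) h0

/-- 324 is the degree of at most one character -/
theorem a2 {V : ι → Fin 8 → ℤ} (h : Hyp V) (h0 : 2 ≤ num V (degIs 324)) : False := by
  refine leaf h vecs h.mem
    [3375, 2224330, 15143000, 6201600, 48092800, 6201600, -12755840, 0, -39636490653, -393913958400, -167799052900, -442025283400, 169239429220, -157934463952, 53669376000, -978324020100, -836632454900, -2176390989800, 848559955700, -801489760400, 250626355200, -1719910400, -1662664308200, 14553088000, 1353926912800, -17720524800, -393913958400, 1738414298600, -4319724252000, 518973235200, 10980966400, -1337088912160, -17720524800, 3810549211008, -393913958400, -3992371200, -393913958400, -19961856000, 48836050968000, 7520256000, -15980544000]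
    [((degIs 324), (-393913958400 : ℤ), (-393913958400 : ℤ) * 2)] ?_ (by decide +kernel) (by decide +kernel)
  intro e he
  simp only [List.mem_cons, List.not_mem_nil, or_false] at he
  rcases he with rfl
  exact le_of_ge (by norm_num) h0

/-- 1615 is a degree -/
theorem b0 {V : ι → Fin 8 → ℤ} (h : Hyp V) (h0 : num V (degIs 1615) ≤ 0) : False := by
  refine leaf h vecs h.mem
    [0, -75, -75, 300, -450, 300, 0, 0, 37911, 439435, 991140, -971190, -1028380, 293664, 1756800, 1248500, 5198000, -4446600, -4464400, 1314720, 8092800, -230400, 10396800, 1139200, -7576320, -691200, -12672000, -8774400, 19379520, 16876800, 934400, 8144640, -691200, -4559616, -12672000, 0, -12672000, 0, 3225600, 0, 0]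
    [((degIs 1615), (3916800 : ℤ), (3916800 : ℤ) * 0)] ?_ (by decide +kernel) (by decide +kernel)
  intro e he
  simp only [List.mem_cons, List.not_mem_nil, or_false] at he
  rcases he with rfl
  exact le_of_le (by norm_num) h0

/-- 1615 is the degree of at most one character -/
theorem b2 {V : ι → Fin 8 → ℤ} (h : Hyp V) (h0 : 2 ≤ num V (degIs 1615)) : False := by
  refine leaf h vecs h.mem
    [10125, -2270690, -3165400, 18604800, -111370400, 34108800, 33281920, 0, -60531330823, -598925721600, -263491881820, -679661832600, 269103296220, -225779837232, 88751097600, -1480333192700, -1318176727500, -3244770725400, 1355601316300, -1162343794800, 388213958400, 8789734400, -2608570287000, 4415539200, 2199115112160, -55541529600, -598925721600, 2786953109400, -6675269680800, 831969446400, 77288473600, -2149750376160, -55541529600, 5753885286528, -598925721600, -223555276800, -598925721600, -59885568000, 74573099726400, 22560768000, -47941632000]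
    [((degIs 1615), (-598925721600 : ℤ), (-598925721600 : ℤ) * 2)] ?_ (by decide +kernel) (by decide +kernel)
  intro e he
  simp only [List.mem_cons, List.not_mem_nil, or_false] at he
  rcases he with rfl
  exact le_of_ge (by norm_num) h0

/-- the number of rows of degree `d` -/
theorem num_deg [DecidableEq ι] {V : ι → Fin 8 → ℤ} (d : ℤ) :
    num V (degIs d) = ((Finset.univ.filter fun χ => V χ 0 = d).card : ℤ) := by
  rw [num, Finset.card_filter]
  push_cast
  refine Finset.sum_congr rfl fun χ _ => ?_
  by_cases hp : V χ 0 = d
  · rw [if_pos hp, ind, if_pos (by simpa [degIs] using hp)]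
  · rw [if_neg hp, ind, if_neg (by simpa [degIs] using hp)]

/-- exactly one row of degree `d` -/
theorem exists_unique {V : ι → Fin 8 → ℤ} {d : ℤ} (h0 : ¬ num V (degIs d) ≤ 0) (h2 : ¬ 2 ≤ num V (degIs d)) :
    ∃ χ, V χ 0 = d ∧ ∀ ψ, V ψ 0 = d → ψ = χ := by
  classical
  rw [num_deg] at h0 h2
  have h1 : (Finset.univ.filter fun χ => V χ 0 = d).card = 1 := by omega
  obtain ⟨χ, hχ⟩ := Finset.card_eq_one.1 h1
  refine ⟨χ, ?_, fun ψ hψ => ?_⟩
  · have : χ ∈ Finset.univ.filter fun χ => V χ 0 = d := by rw [hχ]; exact Finset.mem_singleton_self _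
    exact (Finset.mem_filter.1 this).2
  · have : ψ ∈ Finset.univ.filter fun χ => V χ 0 = d := Finset.mem_filter.2 ⟨Finset.mem_univ _, hψ⟩
    rw [hχ] at this
    exact Finset.mem_singleton.1 this

/-- **The row `J₃`.** -/
theorem row_J3 {S : Type u} [Group S] [Finite S] [IsSimpleGroup S] (hna : ¬ IsMulCommutative S) (h : Spor.IsoJ3 S) :
    CopRow S := by
  have := Cfsg.Agent.Characters.Core.finite_irr (G := S)
  let _ := Fintype.ofFinite (IrrCharacter S)
  obtain ⟨V, hdg, hV⟩ := Cfsg.Agent.H417.JThreeDeg.hyp h
  obtain ⟨α, hα, hα'⟩ := exists_unique (a0 hV) (a2 hV)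
  obtain ⟨β, hβ, hβ'⟩ := exists_unique (b0 hV) (b2 hV)
  have eα : charDegree (α : S → ℂ) = 324 := by
    have h1 : ((dg α : ℕ) : ℤ) = 324 := by rw [← hdg, hα]
    exact_mod_cast h1
  have eβ : charDegree (β : S → ℂ) = 1615 := by
    have h1 : ((dg β : ℕ) : ℤ) = 1615 := by rw [← hdg, hβ]
    exact_mod_cast h1
  refine copRow_unique hna (Cfsg.Agent.H489.card_out_sporadic (by simp only [IsSporadicGroup, h, true_or, or_true]))
    (α := α) (β := β) (by rw [eα]; norm_num) (by rw [eβ]; norm_num) (by rw [eα, eβ]; norm_num) ?_ ?_
  · intro ψ hψ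
    apply hα'
    rw [hdg]
    have h1 : dg ψ = 324 := by rw [← eα]; exact hψ
    rw [h1]
    rfl
  · intro ψ hψ
    apply hβ'
    rw [hdg]
    have h1 : dg ψ = 1615 := by rw [← eβ]; exact hψ
    rw [h1]
    rfl

end Cfsg.Agent.H360.LD
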